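import Groth.Prelude.Def_RelProj2
import Groth.Agent.QCohLib.Affine

/-!
# A symmetric algebra is generated over the structure sheaf by the module
-/

set_option autoImplicit false
universe u
open CategoryTheory CategoryTheory.Limits AlgebraicGeometry TopologicalSpace Opposite

noncomputable section

namespace SymGenLib

variable {S : Scheme.{u}} (A : RelSpec.QCAlg S) {E : S.Modules} (j : E ⟶ A.toModule)

/-- restriction in a quasi-coherent algebra -/
abbrev res {U V : S.Opens} (h : V ≤ U) : A.presheaf.obj (op U) →+* A.presheaf.obj (op V) :=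
  (A.presheaf.map (homOfLE h).op).hom

theorem res_res {U V W : S.Opens} (h : V ≤ U) (h' : W ≤ V) (a : A.presheaf.obj (op U)) :
    res A h' (res A h a) = res A (h'.trans h) a := by
  show (A.presheaf.map (homOfLE h').op).hom ((A.presheaf.map (homOfLE h).op).hom a) = _
  rw [← RingHom.comp_apply, ← CommRingCat.hom_comp, ← Functor.map_comp]
  rfl

theorem res_str {U V : S.Opens} (h : V ≤ U) (r : Γ(S, U)) :
    res A h ((A.str.app (op U)).hom r) = (A.str.app (op V)).hom (S.presheaf.map (homOfLE h).op r) :=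
  (ConcreteCategory.congr_hom (A.str.naturality (homOfLE h).op) r).symm

theorem res_j {U V : S.Opens} (h : V ≤ U) (e : Γ(E, U)) :
    res A h (j.app U e) = j.app V (E.presheaf.map (homOfLE h).op e) :=
  congr($(j.mapPresheaf.naturality (homOfLE h).op) e).symm

/-- the subring generated by scalars and the module -/
def gen (U : S.Opens) : Subring (A.presheaf.obj (op U)) :=
  Subring.closure (Set.range (fun r => (A.str.app (op U)).hom r) ∪ Set.range fun e : Γ(E, U) => (j.app U e : A.presheaf.obj (op U)))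

theorem str_mem (U : S.Opens) (r : Γ(S, U)) : (A.str.app (op U)).hom r ∈ gen A j U :=
  Subring.subset_closure (Or.inl ⟨r, rfl⟩)

theorem j_mem (U : S.Opens) (e : Γ(E, U)) : (j.app U e : A.presheaf.obj (op U)) ∈ gen A j U :=
  Subring.subset_closure (Or.inr ⟨e, rfl⟩)

theorem res_mem {U V : S.Opens} (h : V ≤ U) {a : A.presheaf.obj (op U)} (ha : a ∈ gen A j U) :
    res A h a ∈ gen A j V := by
  have : (gen A j U).map (res A h) ≤ gen A j V := by
    rw [gen, RingHom.map_closure, Subring.closure_le]
    rintro _ ⟨x, ⟨r, rfl⟩ | ⟨e, rfl⟩, rfl⟩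
    · rw [res_str]; exact str_mem A j V _
    · rw [res_j]; exact j_mem A j V _
  exact this ⟨a, ha, rfl⟩

theorem exists_num [hE : Coh.IsQCoh E] {U : S.Opens} (hU : IsAffineOpen U) (r : Γ(S, U))
    {b : A.presheaf.obj (op (S.basicOpen r))} (hb : b ∈ gen A j (S.basicOpen r)) :
    ∃ (k : ℕ) (a : A.presheaf.obj (op U)), a ∈ gen A j U ∧
      res A (S.basicOpen_le r) a = res A (S.basicOpen_le r) ((A.str.app (op U)).hom r) ^ k * b := by
  let c := (A.str.app (op U)).hom r
  let ψ := res A (S.basicOpen_le r)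
  have hc : c ∈ gen A j U := str_mem A j U r
  induction hb using Subring.closure_induction with
  | mem x hx =>
    rcases hx with ⟨t, rfl⟩ | ⟨e, rfl⟩
    · haveI := hU.isLocalization_basicOpen r
      obtain ⟨⟨z, _, k, rfl⟩, hz⟩ := IsLocalization.surj (Submonoid.powers r) t
      refine ⟨k, (A.str.app (op U)).hom z, str_mem A j U z, ?_⟩
      rw [res_str, res_str, ← map_pow, ← map_mul]
      refine congrArg _ (hz.symm.trans ?_)
      rw [mul_comm]
      exact congrArg (· * t) (map_pow _ r k)
    · obtain ⟨k, z, hz⟩ := (QCohLib.localizingAt_of_isQCoh hU E r).exists_extend e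
      refine ⟨k, j.app U z, j_mem A j U z, ?_⟩
      rw [res_j, hz, res_str]
      refine Eq.trans ?_ (congrArg (fun z => z * (show A.presheaf.obj (op (S.basicOpen r)) from j.app (S.basicOpen r) e)) (map_pow _ _ k))
      exact (j.val.app (op (S.basicOpen r))).hom.map_smul ((S.presheaf.map (homOfLE (S.basicOpen_le r)).op r) ^ k) e
  | zero => exact ⟨0, 0, zero_mem _, by simp⟩
  | one => exact ⟨0, 1, one_mem _, by simp⟩
  | add x y _ _ hx hy =>
    obtain ⟨k, a, ha, e⟩ := hx
    obtain ⟨l, a', ha', e'⟩ := hy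
    refine ⟨k + l, c ^ l * a + c ^ k * a', add_mem (mul_mem (pow_mem hc _) ha) (mul_mem (pow_mem hc _) ha'), ?_⟩
    rw [map_add, map_mul, map_mul, map_pow, map_pow, e, e']
    ring
  | neg x _ hx =>
    obtain ⟨k, a, ha, e⟩ := hx
    exact ⟨k, -a, neg_mem ha, by rw [map_neg, e, mul_neg]⟩
  | mul x y _ _ hx hy =>
    obtain ⟨k, a, ha, e⟩ := hx
    obtain ⟨l, a', ha', e'⟩ := hy
    refine ⟨k + l, a * a', mul_mem ha ha', ?_⟩
    rw [map_mul, e, e']
    ring

/-- membership in the generated subalgebra -/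
def Mem (V : S.Opens) (a : A.presheaf.obj (op V)) : Prop :=
  ∀ (U : S.Opens) (_ : IsAffineOpen U) (h : U ≤ V), res A h a ∈ gen A j U

/-- the subring of members -/
def memRing (V : S.Opens) : Subring (A.presheaf.obj (op V)) where
  carrier := {a | Mem A j V a}
  one_mem' U _ h := by rw [map_one]; exact one_mem _
  zero_mem' U _ h := by rw [map_zero]; exact zero_mem _
  add_mem' ha hb U hU h := by rw [map_add]; exact add_mem (ha U hU h) (hb U hU h)
  mul_mem' ha hb U hU h := by rw [map_mul]; exact mul_mem (ha U hU h) (hb U hU h)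
  neg_mem' ha U hU h := by rw [map_neg]; exact neg_mem (ha U hU h)

theorem mem_res {V W : S.Opens} (h : W ≤ V) {a : A.presheaf.obj (op V)} (ha : a ∈ memRing A j V) :
    res A h a ∈ memRing A j W := fun U hU h' => by
  rw [res_res]; exact ha U hU (h'.trans h)

variable [hE : Coh.IsQCoh E]

include hE in
theorem mem_local {U : S.Opens} (hU : IsAffineOpen U) (a : A.presheaf.obj (op U))
    (s : Set Γ(S, U)) (hs : Ideal.span s = ⊤) (h : ∀ r ∈ s, res A (S.basicOpen_le r) a ∈ gen A j (S.basicOpen r)) :
    a ∈ gen A j U := by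
  have key : ∀ r ∈ s, ∃ k : ℕ, (A.str.app (op U)).hom r ^ k * a ∈ gen A j U := fun r hr => by
    obtain ⟨k, a', ha', e⟩ := exists_num A j hU r (h r hr)
    rw [← map_pow, ← map_mul] at e
    let _inst := (A.presheaf.map (homOfLE (S.basicOpen_le r)).op).hom.toAlgebra
    have hloc : IsLocalization.Away ((A.str.app (op U)).hom r) (A.presheaf.obj (op (S.basicOpen r))) := A.isQC U hU r
    obtain ⟨⟨_, l, rfl⟩, hl⟩ := IsLocalization.exists_of_eq (M := Submonoid.powers ((A.str.app (op U)).hom r))
      (S := A.presheaf.obj (op (S.basicOpen r))) e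
    refine ⟨l + k, ?_⟩
    rw [pow_add, mul_assoc, ← hl]
    exact mul_mem (pow_mem (str_mem A j U r) _) ha'
  choose! k hk using key
  let I : Ideal Γ(S, U) :=
    { carrier := {t | (A.str.app (op U)).hom t * a ∈ gen A j U}
      zero_mem' := by simp only [Set.mem_setOf_eq, map_zero, zero_mul]; exact zero_mem _
      add_mem' := fun {x y} hx hy => by
        simp only [Set.mem_setOf_eq, map_add, add_mul] at hx hy ⊢; exact add_mem hx hy
      smul_mem' := fun t x hx => by
        simp only [Set.mem_setOf_eq, smul_eq_mul, map_mul, mul_assoc] at hx ⊢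
        exact mul_mem (str_mem A j U t) hx }
  have hI : I = ⊤ := by
    by_contra hne
    obtain ⟨m, hm, hIm⟩ := Ideal.exists_le_maximal I hne
    refine hm.ne_top (top_le_iff.mp (hs ▸ Ideal.span_le.mpr fun r hr => ?_))
    exact hm.isPrime.mem_of_pow_mem (k r) (hIm (show (A.str.app (op U)).hom (r ^ k r) * a ∈ gen A j U by
      rw [map_pow]; exact hk r hr))
  have h1 : (A.str.app (op U)).hom 1 * a ∈ gen A j U := (hI ▸ Submodule.mem_top : (1 : Γ(S, U)) ∈ I)
  rwa [map_one, one_mul] at h1

include hE in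
theorem mem_of_cover {V : S.Opens} (a : A.presheaf.obj (op V))
    (h : ∀ x ∈ V, ∃ (W : S.Opens) (hle : W ≤ V), x ∈ W ∧ res A hle a ∈ memRing A j W) : a ∈ memRing A j V := by
  intro U hU hUV
  refine mem_local A j hU _ {r | res A (S.basicOpen_le r) (res A hUV a) ∈ gen A j (S.basicOpen r)} ?_ fun r hr => hr
  rw [← hU.iSup_basicOpen_eq_self_iff]
  refine le_antisymm (iSup_le fun r => S.basicOpen_le _) fun x hx => ?_
  obtain ⟨W, hle, hxW, hm⟩ := h x (hUV hx)
  obtain ⟨f, hf, hxf⟩ := hU.exists_basicOpen_le (V := W) ⟨x, hxW⟩ hx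
  refine Opens.mem_iSup.mpr ⟨⟨f, ?_⟩, hxf⟩
  show res A (S.basicOpen_le f) (res A hUV a) ∈ gen A j (S.basicOpen f)
  have := hm (S.basicOpen f) (hU.basicOpen f) hf
  rwa [res_res] at this ⊢

/-- the presheaf of the generated subalgebra -/
def pre : TopCat.Presheaf CommRingCat.{u} S.carrier where
  obj V := CommRingCat.of (memRing A j V.unop)
  map {V W} i := CommRingCat.ofHom
    (((res A (leOfHom i.unop)).comp (memRing A j V.unop).subtype).codRestrict (memRing A j W.unop)
      fun a => mem_res A j _ a.2)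
  map_id V := by
    refine CommRingCat.hom_ext (RingHom.ext fun a => Subtype.ext ?_)
    exact ConcreteCategory.congr_hom (A.presheaf.map_id V) a.1
  map_comp {U V W} i i' := by
    refine CommRingCat.hom_ext (RingHom.ext fun a => Subtype.ext ?_)
    exact ConcreteCategory.congr_hom (A.presheaf.map_comp i i') a.1

include hE in
theorem pre_isSheaf : (pre A j).IsSheaf := by
  rw [TopCat.Presheaf.isSheaf_iff_isSheafUniqueGluing]
  intro ι U sf hsf
  obtain ⟨g, hg, huniq⟩ := TopCat.Sheaf.existsUnique_gluing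
    (⟨A.presheaf, A.isSheaf⟩ : TopCat.Sheaf CommRingCat.{u} S.carrier) U (fun i => (sf i).1)
    fun i k => congr_arg Subtype.val (hsf i k)
  refine ⟨⟨g, mem_of_cover A j g fun x hx => ?_⟩, fun i => Subtype.ext (hg i),
    fun y hy => Subtype.ext (huniq y.1 fun i => congr_arg Subtype.val (hy i))⟩
  obtain ⟨i, hi⟩ := Opens.mem_iSup.mp hx
  refine ⟨U i, le_iSup U i, hi, ?_⟩
  have := (sf i).2
  rw [show (sf i).1 = _ from (hg i).symm] at this
  exact this

theorem mem_affine {U : S.Opens} (hU : IsAffineOpen U) {a : A.presheaf.obj (op U)} :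
    a ∈ memRing A j U ↔ a ∈ gen A j U := by
  refine ⟨fun h => ?_, fun h V hV hVU => res_mem A j hVU h⟩
  have := h U hU le_rfl
  rwa [show res A (le_refl U) a = a from ConcreteCategory.congr_hom (A.presheaf.map_id (op U)) a] at this

/-- the generated subalgebra -/
def sub : RelSpec.QCAlg S where
  presheaf := pre A j
  isSheaf := pre_isSheaf A j
  str :=
    { app := fun V => CommRingCat.ofHom ((A.str.app V).hom.codRestrict (memRing A j V.unop)
        fun r U hU h => by rw [res_str]; exact str_mem A j U _)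
      naturality := fun {V W} i => by
        refine CommRingCat.hom_ext (RingHom.ext fun r => Subtype.ext ?_)
        exact ConcreteCategory.congr_hom (A.str.naturality i) r }
  isQC U hU r := by
    let _inst := ((pre A j).map (homOfLE (S.basicOpen_le r)).op).hom.toAlgebra
    let _inst' := (A.presheaf.map (homOfLE (S.basicOpen_le r)).op).hom.toAlgebra
    have hloc : IsLocalization.Away ((A.str.app (op U)).hom r) (A.presheaf.obj (op (S.basicOpen r))) := A.isQC U hU r
    refine ⟨?_, fun z => ?_, fun {x y} hxy => ?_⟩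
    · rintro ⟨_, k, rfl⟩
      have h0 : IsUnit (((CommRingCat.ofHom ((A.str.app (op (S.basicOpen r))).hom.codRestrict (memRing A j (S.basicOpen r))
          fun t V hV h => by rw [res_str]; exact str_mem A j V _)).hom)
            (S.presheaf.map (homOfLE (S.basicOpen_le r)).op r)) :=
        (S.toRingedSpace.isUnit_res_basicOpen r).map _
      have h1 := h0.pow k
      rw [← map_pow] at h1
      refine Eq.subst (motive := fun w => IsUnit w) (Eq.symm (Subtype.ext ?_)) h1
      show res A (S.basicOpen_le r) ((A.str.app (op U)).hom r ^ k) =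
        (A.str.app (op (S.basicOpen r))).hom (S.presheaf.map (homOfLE (S.basicOpen_le r)).op r ^ k)
      rw [map_pow, map_pow, res_str]
    · obtain ⟨k, a, ha, e⟩ := exists_num A j hU r ((mem_affine A j (hU.basicOpen r)).mp z.2)
      refine ⟨⟨⟨a, (mem_affine A j hU).mpr ha⟩, _, k, rfl⟩, Subtype.ext ?_⟩
      show z.1 * res A (S.basicOpen_le r) _ = res A (S.basicOpen_le r) a
      rw [e, mul_comm, ← map_pow]
      rfl
    · obtain ⟨⟨_, k, rfl⟩, hk⟩ := IsLocalization.exists_of_eq (M := Submonoid.powers ((A.str.app (op U)).hom r))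
        (S := A.presheaf.obj (op (S.basicOpen r))) (congrArg Subtype.val hxy)
      exact ⟨⟨_, k, rfl⟩, Subtype.ext hk⟩

/-- the inclusion -/
def incl : sub A j ⟶ A where
  hom :=
    { app := fun V => CommRingCat.ofHom (memRing A j V.unop).subtype
      naturality := fun _ _ _ => rfl }
  comm := by ext V r; rfl

/-- the module map into the subalgebra -/
def corestrict : E ⟶ (sub A j).toModule :=
  ⟨letI := (sub A j).moduleSect
   PresheafOfModules.homMk
    { app := fun V => AddCommGrpCat.ofHom (AddMonoidHom.mk'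
        (fun e => (⟨j.app V.unop e, fun U hU h => by rw [res_j]; exact j_mem A j U _⟩ : memRing A j V.unop))
        fun a b => Subtype.ext (map_add (j.app V.unop).hom a b))
      naturality := fun {V W} i => ConcreteCategory.hom_ext _ _ fun e => Subtype.ext
        ((res_j A j (leOfHom i.unop) e).symm) }
    fun V r e => Subtype.ext ((j.val.app V).hom.map_smul r e)⟩

theorem corestrict_comp : corestrict A j ≫ RelSpec.QCAlg.Hom.toModuleMap (incl A j) = j :=
  Scheme.Modules.hom_ext _ _ fun _ => ConcreteCategory.hom_ext _ _ fun _ => rfl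

include hE in
/-- a symmetric algebra is generated by scalars and the module -/
theorem gen_eq_top (hj : RelSpec.IsSymAlg E A j) (U : S.Opens) (hU : IsAffineOpen U) : gen A j U = ⊤ := by
  obtain ⟨ψ, hψ, -⟩ := hj (sub A j) (corestrict A j)
  obtain ⟨θ, hθ, huniq⟩ := hj A j
  have h1 : j ≫ RelSpec.QCAlg.Hom.toModuleMap (ψ ≫ incl A j) = j := by
    refine Eq.trans ?_ (corestrict_comp A j)
    rw [← hψ]
    exact Scheme.Modules.hom_ext _ _ fun _ => ConcreteCategory.hom_ext _ _ fun _ => rfl
  have h2 : j ≫ RelSpec.QCAlg.Hom.toModuleMap (𝟙 A) = j :=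
    Scheme.Modules.hom_ext _ _ fun _ => ConcreteCategory.hom_ext _ _ fun _ => rfl
  have h3 : ψ ≫ incl A j = 𝟙 A := (huniq _ h1).trans (huniq _ h2).symm
  refine eq_top_iff.mpr fun a _ => ?_
  have h4 : ((ψ ≫ incl A j).hom.app (op U)).hom a = a := by rw [h3]; rfl
  rw [← h4]
  exact (mem_affine A j hU).mp ((ψ.hom.app (op U)).hom a).2

include hE in
/-- a graded symmetric algebra is generated in degree one -/
theorem isGenDegOne {𝒮 : RelProj.QCGrAlg S} {j : E ⟶ 𝒮.toModule} (hj : RelProj.IsGrSymAlg E 𝒮 j) :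
    𝒮.IsGenDegOne := by
  intro U hU
  rw [eq_top_iff, ← gen_eq_top 𝒮.toQCAlg j hj.1 U hU, gen, Subring.closure_le]
  rintro _ (⟨r, rfl⟩ | ⟨e, rfl⟩)
  · exact Subring.subset_closure (Or.inl (𝒮.str_mem U hU r))
  · exact Subring.subset_closure (Or.inr (hj.2 U hU e))

end SymGenLib

end
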